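import Groth.Agent.Lib.AlgSpTopInv.Basic
import Groth.Agent.Lib.AlgSpDecent.Core

/-!
# Sections of etale morphisms glued along a proper modification
-/

set_option autoImplicit false
set_option linter.style.haveILetI false

universe u

open CategoryTheory CategoryTheory.Limits AlgebraicGeometry

namespace Groth.Agent.Lib.AlgSpTopInv

open AlgSp (Sp yon Representable RepWith IsAlgSpace Points Space IsEtaleMor)
open Groth.Agent.Lib.AlgSpace Groth.Agent.Lib.AlgSpMor

variable {S : Scheme.{u}}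

/-- Compatible sections form a pullback square. -/
theorem isPullback_of_section {P P' V V' : Sp S} {cP : P ⟶ P'} {π : P ⟶ V} {π' : P' ⟶ V'}
    {c : V ⟶ V'} (sq : IsPullback cP π π' c) {s : V ⟶ P} (hs : s ≫ π = 𝟙 V) {s' : V' ⟶ P'}
    (hs' : s' ≫ π' = 𝟙 V') (w : c ≫ s' = s ≫ cP) : IsPullback s c cP s' := by
  haveI : IsSplitMono s := IsSplitMono.mk' ⟨π, hs⟩
  refine isPullback_of_yon w.symm (fun T a a' e _ ↦ (cancel_mono s).1 e) fun T a b e ↦
    ⟨a ≫ π, ?_, ?_⟩
  · refine sq.hom_ext ?_ (by rw [Category.assoc, hs, Category.comp_id])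
    have hb : (a ≫ π) ≫ c = b := by
      rw [Category.assoc, ← sq.w, reassoc_of% e, hs', Category.comp_id]
    rw [Category.assoc, ← w, ← Category.assoc, hb, e]
  · rw [Category.assoc, ← sq.w, reassoc_of% e, hs', Category.comp_id]

/-- The range of a section pulls back to the range of the induced section. -/
theorem preimage_range_section {P P' V V' : Sp S} {cP : P ⟶ P'} {π : P ⟶ V} {π' : P' ⟶ V'}
    {c : V ⟶ V'} (sq : IsPullback cP π π' c) {s : V ⟶ P} (hs : s ≫ π = 𝟙 V) {s' : V' ⟶ P'}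
    (hs' : s' ≫ π' = 𝟙 V') (w : c ≫ s' = s ≫ cP) :
    Points.map cP ⁻¹' Set.range (Points.map s') = Set.range (Points.map s) :=
  (AlgSpDecent.Core.range_map_snd_of_isPullback
    (isPullback_of_section sq hs hs' w).flip).symm

/-- An open subspace with preimage a section becomes trivial after the base change. -/
theorem isPullback_open_section {G P P' V V' : Sp S} {cP : P ⟶ P'} {π : P ⟶ V} {π' : P' ⟶ V'}
    {c : V ⟶ V'} (sq : IsPullback cP π π' c) {s : V ⟶ P} (hs : s ≫ π = 𝟙 V)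
    (hsO : RepWith @IsOpenImmersion s) {j : G ⟶ P'} (hj : RepWith @IsOpenImmersion j)
    (hr : Points.map cP ⁻¹' Set.range (Points.map j) = Set.range (Points.map s)) :
    ∃ k : V ⟶ G, k ≫ j = s ≫ cP ∧ IsPullback k (𝟙 V) (j ≫ π') c := by
  haveI : Mono j := mono_of_repWith (P := @IsOpenImmersion)
    (fun _ _ g (_ : IsOpenImmersion g) ↦ (inferInstance : Mono g)) hj
  obtain ⟨k, hk⟩ := (exists_lift_iff_range_subset hj (s ≫ cP)).2 (by
    rintro _ ⟨x, rfl⟩
    rw [Points.map_comp]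
    exact hr.ge ⟨x, rfl⟩)
  haveI : IsSplitMono s := IsSplitMono.mk' ⟨π, hs⟩
  have sqk : IsPullback k s j cP := isPullback_of_yon hk
    (fun T a a' _ e ↦ (cancel_mono s).1 e) fun T a b e ↦ by
      obtain ⟨b', hb'⟩ := (exists_lift_iff_range_subset hsO b).2 (by
        rintro _ ⟨x, rfl⟩
        exact hr.le ⟨Points.map a x, by rw [← Points.map_comp, e, Points.map_comp]⟩)
      exact ⟨b', (cancel_mono j).1 (by rw [Category.assoc, hk, ← Category.assoc, hb', e]), hb'⟩
  refine ⟨k, hk, ?_⟩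
  have h' : IsPullback k (s ≫ π) (j ≫ π') c := sqk.paste_vert sq
  rwa [hs] at h'

/-- If a morphism becomes an isomorphism along `c`, its diagonal covers the points over the
image of `c`. -/
theorem mem_range_diagonal {G V' V : Sp S} {κ : G ⟶ V'} {k : V ⟶ G} {c : V ⟶ V'}
    (sq : IsPullback k (𝟙 V) κ c) (r : Points (pullback κ κ))
    (hr : Points.map (pullback.fst κ κ ≫ κ) r ∈ Set.range (Points.map c)) :
    r ∈ Set.range (Points.map (pullback.diagonal κ)) := by
  obtain ⟨T, ρ, t, rfl⟩ := exists_ofPt_eq r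
  obtain ⟨x, hx⟩ := hr
  have sqT := IsPullback.of_hasPullback (ρ ≫ pullback.fst κ κ ≫ κ) c
  obtain ⟨z, hz, -⟩ := exists_of_isPullback sqT (Points.ofScheme T t) x (by
    rw [AlgSpDecent.Core.map_ofScheme, hx, Points.map_ofPt])
  obtain ⟨T', ζ, t', rfl⟩ := exists_ofPt_eq z
  obtain ⟨p, hp⟩ := (yon S).map_surjective (ζ ≫ pullback.fst (ρ ≫ pullback.fst κ κ ≫ κ) c)
  let ξ := ζ ≫ pullback.snd (ρ ≫ pullback.fst κ κ ≫ κ) c
  have hξ : (yon S).map p ≫ ρ ≫ pullback.fst κ κ ≫ κ = ξ ≫ c := by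
    rw [hp, Category.assoc, sqT.w, Category.assoc]
  have hlift : ∀ a : (yon S).obj T' ⟶ G, a ≫ κ = ξ ≫ c → a = ξ ≫ k := fun a ha ↦ by
    have h1 := sq.lift_fst a ξ ha
    have h2 := sq.lift_snd a ξ ha
    rw [Category.comp_id] at h2
    rw [h2] at h1
    exact h1.symm
  have ha := hlift ((yon S).map p ≫ ρ ≫ pullback.fst κ κ) (by simpa only [Category.assoc] using hξ)
  have hb := hlift ((yon S).map p ≫ ρ ≫ pullback.snd κ κ)
    (by simp only [Category.assoc, ← pullback.condition]; exact hξ)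
  have hdiag : (yon S).map p ≫ ρ = (ξ ≫ k) ≫ pullback.diagonal κ := by
    apply pullback.hom_ext
    · rw [Category.assoc, Category.assoc, pullback.diagonal_fst, Category.comp_id, ha]
    · rw [Category.assoc, Category.assoc, pullback.diagonal_snd, Category.comp_id, hb]
  have hpt : p.left t' = t := by
    refine (Points.schemeEquiv T).injective ?_
    show Points.ofScheme T (p.left t') = Points.ofScheme T t
    rw [← hz, Points.map_ofPt, ← hp, AlgSpDecent.Core.ofPt_yon_map]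
  refine ⟨Points.ofPt (ξ ≫ k) t', ?_⟩
  rw [Points.map_ofPt, ← hdiag, ofPt_yon_map_comp, hpt]

/-- Sections of an etale morphism glue from a universally closed modification and the locus where
it is not injective. -/
theorem existsUnique_glue_section {P' V' VY VZ VE PY PZ : Sp S} (hP' : IsAlgSpace P')
    (hV' : IsAlgSpace V') (hVY : IsAlgSpace VY) (hVZ : IsAlgSpace VZ) {π' : P' ⟶ V'}
    (hπ' : IsEtaleMor π') {cY : VY ⟶ V'} {cZ : VZ ⟶ V'} {pY : PY ⟶ P'} {πY : PY ⟶ VY}
    (sqY : IsPullback pY πY π' cY) {pZ : PZ ⟶ P'} {πZ : PZ ⟶ VZ} (sqZ : IsPullback pZ πZ π' cZ)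
    (hY : AlgSp.IsUnivClosedMor cY) (hZ : AlgSp.IsUnivClosedMor cZ) [Mono cZ]
    {eY : VE ⟶ VY} {eZ : VE ⟶ VZ} (sqE : IsPullback eY eZ cY cZ)
    (huniq : ∀ p₁ p₂ : Points PY, Points.map pY p₁ = Points.map pY p₂ →
      Points.map pY p₁ ∉ Set.range (Points.map pZ) → p₁ = p₂)
    (hjoint : ∀ v, v ∈ Set.range (Points.map cY) ∪ Set.range (Points.map cZ))
    {sY : VY ⟶ PY} (hsY : sY ≫ πY = 𝟙 VY) {sZ : VZ ⟶ PZ} (hsZ : sZ ≫ πZ = 𝟙 VZ)
    (hcompat : eY ≫ sY ≫ pY = eZ ≫ sZ ≫ pZ) :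
    ∃! s' : V' ⟶ P', s' ≫ π' = 𝟙 V' ∧ cY ≫ s' = sY ≫ pY ∧ cZ ≫ s' = sZ ≫ pZ := by
  have hPY := isAlgSpace_of_isPullback sqY hV'.diag hP' hVY
  have hPZ := isAlgSpace_of_isPullback sqZ hV'.diag hP' hVZ
  have hOY := repWith_openImmersion_section hPY hVY
    (isEtaleMor_of_isPullback hP' hV' hVY sqY hπ') hsY
  have hOZ := repWith_openImmersion_section hPZ hVZ
    (isEtaleMor_of_isPullback hP' hV' hVZ sqZ hπ') hsZ
  have hpY : AlgSp.IsUnivClosedMor pY := Proper.univSp_baseChange sqY.flip hY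
  have hpZ : AlgSp.IsUnivClosedMor pZ := Proper.univSp_baseChange sqZ.flip hZ
  haveI : Mono pZ := ⟨fun a b e ↦ sqZ.hom_ext e ((cancel_mono cZ).1 (by
    simp only [Category.assoc, ← sqZ.w, reassoc_of% e]))⟩
  have hZinj : Function.Injective (Points.map pZ) := injective_map_of_mono pZ
  -- the two preimages agree on the common part
  let sqPE := IsPullback.of_hasPullback πY eY
  let pE : pullback πY eY ⟶ PZ := sqZ.lift (pullback.fst πY eY ≫ pY) (pullback.snd πY eY ≫ eZ)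
    (by rw [Category.assoc, sqY.w, ← Category.assoc, sqPE.w, Category.assoc, sqE.w, Category.assoc])
  have sqPEZ : IsPullback pE (pullback.snd πY eY) πZ eZ := by
    refine IsPullback.of_right ?_ (sqZ.lift_snd _ _ _) sqZ
    rw [show pE ≫ pZ = pullback.fst πY eY ≫ pY from sqZ.lift_fst _ _ _, ← sqE.w]
    exact sqPE.paste_horiz sqY
  let sE : VE ⟶ pullback πY eY :=
    sqPE.lift (eY ≫ sY) (𝟙 VE) (by rw [Category.assoc, hsY, Category.id_comp, Category.comp_id])
  have hsE : sE ≫ pullback.snd πY eY = 𝟙 VE := sqPE.lift_snd _ _ _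
  have hEY : Points.map (pullback.fst πY eY) ⁻¹' Set.range (Points.map sY) =
      Set.range (Points.map sE) :=
    preimage_range_section sqPE hsE hsY (sqPE.lift_fst _ _ _).symm
  have hEZ : Points.map pE ⁻¹' Set.range (Points.map sZ) = Set.range (Points.map sE) := by
    refine preimage_range_section sqPEZ hsE hsZ (sqZ.hom_ext ?_ ?_)
    · simp only [Category.assoc, pE, sqZ.lift_fst, sE, sqPE.lift_fst_assoc, hcompat]
    · simp only [Category.assoc, pE, sqZ.lift_snd, hsZ, Category.comp_id, sE, sqPE.lift_snd_assoc,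
        Category.id_comp]
  have hYZ : ∀ (p : Points PY) (z : Points PZ), Points.map pY p = Points.map pZ z →
      (p ∈ Set.range (Points.map sY) ↔ z ∈ Set.range (Points.map sZ)) := fun p z e ↦ by
    have sqPP : IsPullback (pullback.fst πY eY) pE pY pZ := by
      refine IsPullback.of_bot (h₂₁ := pZ) ?_ (sqZ.lift_fst _ _ _).symm sqZ.flip.flip |>.flip.flip
      rw [show pE ≫ πZ = pullback.snd πY eY ≫ eZ from sqZ.lift_snd _ _ _]
      exact sqPE.paste_vert sqE |>.of_iso (Iso.refl _) (Iso.refl _) (Iso.refl _) (Iso.refl _)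
        (by simp) (by simp) (by simp [sqY.w]) (by simp)
    obtain ⟨q, rfl, rfl⟩ := exists_of_isPullback sqPP p z e
    exact ⟨fun h ↦ hEZ.ge (hEY.le h), fun h ↦ hEY.ge (hEZ.le h)⟩
  -- the open set
  let F : Set (Points P') := Points.map pY '' (Set.range (Points.map sY))ᶜ ∪
    Points.map pZ '' (Set.range (Points.map sZ))ᶜ
  have hF : IsClosed F :=
    (Proper.isClosedMap_of_isUnivClosedMor hP' hpY _
      (isOpenEmbedding_map hOY).isOpen_range.isClosed_compl).union
    (Proper.isClosedMap_of_isUnivClosedMor hP' hpZ _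
      (isOpenEmbedding_map hOZ).isOpen_range.isClosed_compl)
  obtain ⟨G, j, hG, hj, hr⟩ := exists_open_subspace hP' hF.isOpen_compl
  have hrY : Points.map pY ⁻¹' Set.range (Points.map j) = Set.range (Points.map sY) := by
    rw [hr]
    ext p
    refine ⟨fun h ↦ by_contra fun hp ↦ h (Or.inl ⟨p, hp, rfl⟩), ?_⟩
    rintro hp (⟨q, hq, e⟩ | ⟨z, hz, e⟩)
    · by_cases hz : Points.map pY p ∈ Set.range (Points.map pZ)
      · obtain ⟨z, hz⟩ := hz
        exact hq ((hYZ q z (e.trans hz.symm)).2 ((hYZ p z hz.symm).1 hp))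
      · exact hq (huniq p q e.symm hz ▸ hp)
    · exact hz ((hYZ p z e.symm).1 hp)
  have hrZ : Points.map pZ ⁻¹' Set.range (Points.map j) = Set.range (Points.map sZ) := by
    rw [hr]
    ext z
    refine ⟨fun h ↦ by_contra fun hz ↦ h (Or.inr ⟨z, hz, rfl⟩), ?_⟩
    rintro hz (⟨p, hp, e⟩ | ⟨w, hw, e⟩)
    · exact hp ((hYZ p z e).2 hz)
    · exact hw (hZinj e ▸ hz)
  obtain ⟨kY, hkY, sqkY⟩ := isPullback_open_section sqY hsY hOY hj hrY
  obtain ⟨kZ, hkZ, sqkZ⟩ := isPullback_open_section sqZ hsZ hOZ hj hrZ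
  have hκ : IsEtaleMor (j ≫ π') := isEtaleMor_comp
    (AlgSpDecent.DescendMor.isEtaleMor_of_repWith
      (repWith_mono hj fun _ _ g (_ : IsOpenImmersion g) ↦ (inferInstance : Etale g))) hπ'
  have hinj : AlgSp.IsUnivInjectiveMor (j ≫ π') :=
    UnivInj.isUnivInjectiveMor_of_surjective_diagonal fun r ↦
      (hjoint (Points.map (pullback.fst _ _ ≫ j ≫ π') r)).elim
        (mem_range_diagonal sqkY r) (mem_range_diagonal sqkZ r)
  haveI : IsIso (j ≫ π') := AlgSpDecent.OpenScheme.isIso_of_surjective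
    (Groth.Agent.S10261.result (X := ⟨G, hG⟩) (Y := ⟨V', hV'⟩) (ObjectProperty.homMk (j ≫ π')) hκ
      hinj) fun v ↦ by
    rcases hjoint v with ⟨x, rfl⟩ | ⟨x, rfl⟩
    · exact ⟨Points.map kY x, by rw [← Points.map_comp, sqkY.w, Category.id_comp]⟩
    · exact ⟨Points.map kZ x, by rw [← Points.map_comp, sqkZ.w, Category.id_comp]⟩
  refine ⟨inv (j ≫ π') ≫ j, ⟨by simp, ?_, ?_⟩, ?_⟩
  · rw [← Category.assoc, ← hkY]
    congr 1
    rw [IsIso.comp_inv_eq, sqkY.w, Category.id_comp]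
  · rw [← Category.assoc, ← hkZ]
    congr 1
    rw [IsIso.comp_inv_eq, sqkZ.w, Category.id_comp]
  · rintro t ⟨ht₁, ht₂, ht₃⟩
    obtain ⟨l, hl⟩ := (exists_lift_iff_range_subset hj t).2 (by
      rintro _ ⟨v, rfl⟩
      rcases hjoint v with ⟨x, rfl⟩ | ⟨x, rfl⟩
      · rw [← Points.map_comp, ht₂, Points.map_comp]
        exact hrY.ge ⟨x, rfl⟩
      · rw [← Points.map_comp, ht₃, Points.map_comp]
        exact hrZ.ge ⟨x, rfl⟩)
    have hl' : l = inv (j ≫ π') := by
      rw [← cancel_mono (j ≫ π'), IsIso.inv_hom_id, ← Category.assoc, hl, ht₁]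
    rw [← hl, hl']

end Groth.Agent.Lib.AlgSpTopInv
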