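import Groth.Agent.Lib.AlgSpace.OpenSubExists
import Groth.Agent.Lib.AlgSpMor.EtaleMono
import Groth.Agent.Lib.AlgSpMor.Proper
import Groth.Agent.Lib.AlgSpMor.AffineDescent
import Groth.Agent.Lib.AlgSpDecent.DescendMor
import Groth.Agent.Lib.AlgSpPush.FullyFaithful
import Groth.Agent.Lib.AlgSpDecent.OpenScheme
import Groth.Agent.S10209
import Groth.Agent.S10210
import Groth.Agent.S10261

/-!
# Sections of etale morphisms along universal homeomorphisms
-/

set_option autoImplicit false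
set_option linter.style.haveILetI false

universe u

open CategoryTheory CategoryTheory.Limits AlgebraicGeometry

namespace Groth.Agent.Lib.AlgSpTopInv

open AlgSp (Sp yon Representable RepWith IsAlgSpace Points Space IsEtaleMor IsUnivHomeoMor)
open Groth.Agent.Lib.AlgSpace Groth.Agent.Lib.AlgSpMor

variable {S : Scheme.{u}}

theorem isHomeomorph_of_univHomeo {X Y : Sp S} (hY : IsAlgSpace Y) {f : X ⟶ Y}
    (hf : IsUnivHomeoMor f) : IsHomeomorph (Points.map f) :=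
  hf hY (𝟙 Y) (𝟙 X) f IsPullback.of_id_fst

theorem isEtaleMor_comp {X Y Z : Sp S} {f : X ⟶ Y} {g : Y ⟶ Z} (hf : IsEtaleMor f)
    (hg : IsEtaleMor g) : IsEtaleMor (f ≫ g) := fun _ φ hφ ↦ by
  rw [← Category.assoc]; exact hg _ (hf φ hφ)

theorem isEtaleMor_of_comp {X Y Z : Sp S} (hX : IsAlgSpace X) (hY : IsAlgSpace Y)
    (hZ : IsAlgSpace Z) {f : X ⟶ Y} {g : Y ⟶ Z} (hfg : IsEtaleMor (f ≫ g)) (hg : IsEtaleMor g) :
    IsEtaleMor f :=
  Groth.Agent.S10210.result (X := ⟨X, hX⟩) (Y := ⟨Y, hY⟩) (Z := ⟨Z, hZ⟩)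
    (ObjectProperty.homMk f) (ObjectProperty.homMk g) (ObjectProperty.homMk (f ≫ g)) rfl hfg hg

theorem isEtaleMor_of_isPullback {X Y Z P : Sp S} (hX : IsAlgSpace X) (hY : IsAlgSpace Y)
    (hZ : IsAlgSpace Z) {f : X ⟶ Y} {g : Z ⟶ Y} {fst : P ⟶ X} {snd : P ⟶ Z}
    (sq : IsPullback fst snd f g) (hf : IsEtaleMor f) : IsEtaleMor snd :=
  Groth.Agent.S10209.result (X := ⟨X, hX⟩) (Y := ⟨Y, hY⟩) (Z := ⟨Z, hZ⟩)
    (P := ⟨P, isAlgSpace_of_isPullback sq hY.diag hX hZ⟩)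
    (ObjectProperty.homMk f) (ObjectProperty.homMk g) (ObjectProperty.homMk snd)
    (ObjectProperty.homMk fst) sq.flip hf

/-- An integral, universally injective, surjective morphism is a universal homeomorphism. -/
theorem isUnivHomeoMor_of_integral {X Y : Sp S} {f : X ⟶ Y} (hi : RepWith @IsIntegralHom f) (hu : AlgSp.IsUnivInjectiveMor f)
    (hs : AlgSp.IsSurjectiveMor f) : IsUnivHomeoMor f := by
  have hc : AlgSp.IsUnivClosedMor f := Proper.isUnivClosedMor_of_repWith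
    (repWith_mono hi fun _ _ g (_ : IsIntegralHom g) ↦ (inferInstance : UniversallyClosed g))
  intro Z P hZ g fst snd sq
  refine isHomeomorph_iff_continuous_isClosedMap_bijective.2
    ⟨Points.continuous_map snd, hc hZ g fst snd sq, hu hZ g fst snd sq, fun z ↦ ?_⟩
  obtain ⟨x, hx⟩ := hs (Points.map g z)
  obtain ⟨p, -, hp⟩ := exists_of_isPullback sq x z hx
  exact ⟨p, hp⟩

/-- An etale morphism which becomes an isomorphism along a universal homeomorphism is an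
isomorphism. -/
theorem isIso_of_etale_of_univHomeo {G V' V : Sp S} (hG : IsAlgSpace G) (hV' : IsAlgSpace V')
    {κ : G ⟶ V'} (hκ : IsEtaleMor κ) {k : V ⟶ G} {c : V ⟶ V'}
    (hk : IsUnivHomeoMor k) (hc : IsUnivHomeoMor c) (w : k ≫ κ = c) : IsIso κ := by
  have hinj : AlgSp.IsUnivInjectiveMor κ := by
    intro Z Q hZ g fst snd sq
    have hQ := isAlgSpace_of_isPullback sq hV'.diag hG hZ
    have sq2 := IsPullback.of_hasPullback k fst
    have h2 : IsHomeomorph (Points.map (pullback.snd k fst)) := hk hQ fst _ _ sq2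
    have sq3 := sq2.paste_vert sq
    rw [w] at sq3
    have h3 : IsHomeomorph (Points.map (pullback.snd k fst ≫ snd)) := hc hZ g _ _ sq3
    intro x y e
    obtain ⟨x, rfl⟩ := h2.bijective.2 x
    obtain ⟨y, rfl⟩ := h2.bijective.2 y
    exact congrArg _ (h3.bijective.1 (by rw [Points.map_comp, Points.map_comp, e]))
  have hj : RepWith @IsOpenImmersion κ :=
    Groth.Agent.S10261.result (X := ⟨G, hG⟩) (Y := ⟨V', hV'⟩) (ObjectProperty.homMk κ) hκ hinj
  refine AlgSpDecent.OpenScheme.isIso_of_surjective hj fun v ↦ ?_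
  obtain ⟨x, rfl⟩ := (isHomeomorph_of_univHomeo hV' hc).bijective.2 v
  exact ⟨Points.map k x, by rw [← Points.map_comp, w]⟩

/-- A section of an etale morphism is an open immersion. -/
theorem repWith_openImmersion_section {P V : Sp S} (hP : IsAlgSpace P) (hV : IsAlgSpace V)
    {π : P ⟶ V} (hπ : IsEtaleMor π) {s : V ⟶ P} (hs : s ≫ π = 𝟙 V) :
    RepWith @IsOpenImmersion s := by
  have hs' : IsEtaleMor s := isEtaleMor_of_comp hV hP hV
    (by rw [hs]; exact fun _ φ hφ ↦ by rwa [Category.comp_id]) hπ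
  haveI : IsSplitMono s := IsSplitMono.mk' ⟨π, hs⟩
  obtain ⟨U, a, ha, has⟩ := hV.atlas
  exact EtaleMono.repWith_openImmersion_of_mono hP.diag ha has (hs' a ha)

/-- Sections of an etale morphism correspond along a universal homeomorphism of the base. -/
theorem existsUnique_section {P P' V V' : Sp S} (hP' : IsAlgSpace P') (hV' : IsAlgSpace V')
    (hV : IsAlgSpace V) {cP : P ⟶ P'} {π : P ⟶ V} {π' : P' ⟶ V'} {c : V ⟶ V'}
    (sq : IsPullback cP π π' c) (hπ' : IsEtaleMor π') (hc : IsUnivHomeoMor c) {s : V ⟶ P}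
    (hs : s ≫ π = 𝟙 V) :
    ∃! s' : V' ⟶ P', s' ≫ π' = 𝟙 V' ∧ c ≫ s' = s ≫ cP := by
  have hP := isAlgSpace_of_isPullback sq hV'.diag hP' hV
  have hcP : IsUnivHomeoMor cP := Proper.univSp_baseChange sq.flip hc
  have hsO := repWith_openImmersion_section hP hV
    (isEtaleMor_of_isPullback hP' hV' hV sq hπ') hs
  have hh := isHomeomorph_of_univHomeo hP' hcP
  have hOp : IsOpen (Points.map cP '' Set.range (Points.map s)) :=
    hh.isOpenMap _ (isOpenEmbedding_map hsO).isOpen_range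
  obtain ⟨G, j, hG, hj, hr⟩ := exists_open_subspace hP' hOp
  haveI : Mono j := mono_of_repWith (P := @IsOpenImmersion)
    (fun _ _ g (_ : IsOpenImmersion g) ↦ (inferInstance : Mono g)) hj
  haveI : IsSplitMono s := IsSplitMono.mk' ⟨π, hs⟩
  obtain ⟨k, hk⟩ := (exists_lift_iff_range_subset hj (s ≫ cP)).2 (by
    rw [hr]
    rintro _ ⟨x, rfl⟩
    exact ⟨Points.map s x, ⟨x, rfl⟩, (Points.map_comp s cP x).symm⟩)
  have sqk : IsPullback s k cP j := isPullback_of_yon hk.symm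
    (fun T a a' e _ ↦ (cancel_mono s).1 e) fun T a b e ↦ by
      obtain ⟨a', ha'⟩ := (exists_lift_iff_range_subset hsO a).2 (by
        rintro _ ⟨x, rfl⟩
        obtain ⟨y, hy, e'⟩ : Points.map cP (Points.map a x) ∈
            Points.map cP '' Set.range (Points.map s) := by
          rw [← hr, ← Points.map_comp, e, Points.map_comp]
          exact ⟨_, rfl⟩
        rw [← hh.bijective.1 e']
        exact hy)
      exact ⟨a', ha', (cancel_mono j).1 (by rw [Category.assoc, hk, ← Category.assoc, ha', e])⟩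
  have hκ : IsEtaleMor (j ≫ π') := isEtaleMor_comp
    (AlgSpDecent.DescendMor.isEtaleMor_of_repWith
      (repWith_mono hj fun _ _ g (_ : IsOpenImmersion g) ↦ (inferInstance : Etale g))) hπ'
  have hkc : k ≫ j ≫ π' = c := by
    rw [← Category.assoc, hk, Category.assoc, sq.w, reassoc_of% hs]
  haveI : IsIso (j ≫ π') := isIso_of_etale_of_univHomeo hG hV' hκ
    (Proper.univSp_baseChange sqk hcP) hc hkc
  refine ⟨inv (j ≫ π') ≫ j, ⟨by simp, ?_⟩, ?_⟩
  · rw [← Category.assoc, ← hk]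
    congr 1
    rw [IsIso.comp_inv_eq]
    exact hkc.symm
  · rintro t ⟨ht₁, ht₂⟩
    obtain ⟨l, hl⟩ := (exists_lift_iff_range_subset hj t).2 (by
      rw [hr]
      rintro _ ⟨x', rfl⟩
      obtain ⟨x, rfl⟩ := (isHomeomorph_of_univHomeo hV' hc).bijective.2 x'
      exact ⟨Points.map s x, ⟨x, rfl⟩, by rw [← Points.map_comp, ← Points.map_comp, ht₂]⟩)
    have hl' : l = inv (j ≫ π') := by
      rw [← cancel_mono (j ≫ π'), IsIso.inv_hom_id, ← Category.assoc, hl, ht₁]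
    rw [← hl, hl']

/-- Morphisms of etale spaces descend uniquely along a universal homeomorphism. -/
theorem existsUnique_hom {V₁ V₂ V₁' V₂' X Y : Sp S} (hV₁' : IsAlgSpace V₁') (hV₂' : IsAlgSpace V₂')
    (hX : IsAlgSpace X) (hY : IsAlgSpace Y) {f : X ⟶ Y} (hf : IsUnivHomeoMor f) {a₁ : V₁' ⟶ Y}
    {a₂ : V₂' ⟶ Y} (ha₂ : IsEtaleMor a₂) {b₁ : V₁ ⟶ X} {b₂ : V₂ ⟶ X} {c₁ : V₁ ⟶ V₁'}
    {c₂ : V₂ ⟶ V₂'} (sq₁ : IsPullback b₁ c₁ f a₁) (sq₂ : IsPullback b₂ c₂ f a₂) (φ : V₁ ⟶ V₂)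
    (hφ : φ ≫ b₂ = b₁) : ∃! φ' : V₁' ⟶ V₂', φ' ≫ a₂ = a₁ ∧ c₁ ≫ φ' = φ ≫ c₂ := by
  have hV₁ := isAlgSpace_of_isPullback sq₁ hY.diag hX hV₁'
  have sqP := IsPullback.of_hasPullback a₂ a₁
  have hP' := isAlgSpace_of_isPullback sqP hY.diag hV₂' hV₁'
  have hc₁ : IsUnivHomeoMor c₁ := Proper.univSp_baseChange sq₁ hf
  have hw : (φ ≫ c₂) ≫ a₂ = c₁ ≫ a₁ := by
    rw [Category.assoc, ← sq₂.w, ← Category.assoc, hφ, sq₁.w]
  have sq := IsPullback.of_hasPullback (pullback.snd a₂ a₁) c₁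
  let s : V₁ ⟶ pullback (pullback.snd a₂ a₁) c₁ :=
    sq.lift (sqP.lift (φ ≫ c₂) c₁ hw) (𝟙 V₁) (by rw [sqP.lift_snd, Category.id_comp])
  have hs : s ≫ pullback.snd (pullback.snd a₂ a₁) c₁ = 𝟙 V₁ := sq.lift_snd _ _ _
  have hs' : s ≫ pullback.fst (pullback.snd a₂ a₁) c₁ = sqP.lift (φ ≫ c₂) c₁ hw :=
    sq.lift_fst _ _ _
  obtain ⟨s', ⟨h₁, h₂⟩, huniq⟩ := existsUnique_section hP' hV₁' hV₁ sq
    (isEtaleMor_of_isPullback hV₂' hY hV₁' sqP ha₂) hc₁ hs
  rw [hs'] at h₂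
  refine ⟨s' ≫ pullback.fst a₂ a₁, ⟨?_, ?_⟩, ?_⟩
  · rw [Category.assoc, sqP.w, ← Category.assoc, h₁, Category.id_comp]
  · rw [← Category.assoc, h₂, sqP.lift_fst]
  · rintro ψ ⟨hψ₁, hψ₂⟩
    have e := huniq (sqP.lift ψ (𝟙 V₁') (by rw [hψ₁, Category.id_comp])) ⟨sqP.lift_snd _ _ _, by
      rw [hs']
      refine sqP.hom_ext ?_ ?_
      · rw [Category.assoc, sqP.lift_fst, sqP.lift_fst, hψ₂]
      · rw [Category.assoc, sqP.lift_snd, sqP.lift_snd, Category.comp_id]⟩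
    rw [← e, sqP.lift_fst]

end Groth.Agent.Lib.AlgSpTopInv
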