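import Groth.Agent.Lib.AlgSpTopInv.Basic
import Groth.Agent.Lib.ProEt.RadicialEtale
import Groth.Agent.Lib.AlgSpace.Quot
import Groth.Agent.Lib.AlgSpFormal.Charts
import Groth.Agent.Lib.AlgSpDecent.Core

/-!
# Descent of etale spaces along integral, universally injective, surjective morphisms

A cover of the given space by base changes of etale schemes is taken (`exists_cover`); the open
relation is transported along the homeomorphism and the quotient is the descended space
(`exists_descent_of_cover`).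
-/

set_option autoImplicit false
set_option linter.style.haveILetI false

universe u

open CategoryTheory CategoryTheory.Limits AlgebraicGeometry

namespace Groth.Agent.Lib.AlgSpTopInv

open AlgSp (Sp yon Representable RepWith IsAlgSpace Points Space IsEtaleMor IsUnivHomeoMor LocP)
open Groth.Agent.Lib.AlgSpace Groth.Agent.Lib.AlgSpMor

variable {S : Scheme.{u}}

/-- An etale space over `X` is covered by the base change of an etale scheme over `Y`. -/
theorem exists_cover {X Y V : Sp S} (hX : IsAlgSpace X) (hY : IsAlgSpace Y) (hV : IsAlgSpace V)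
    {f : X ⟶ Y} (hi : RepWith @IsIntegralHom f) (hu : AlgSp.IsUnivInjectiveMor f) {b : V ⟶ X}
    (hb : IsEtaleMor b) :
    ∃ (W WX : Over S) (qw : (yon S).obj W ⟶ Y) (π : WX ⟶ W) (pW : (yon S).obj WX ⟶ X)
      (g : (yon S).obj WX ⟶ V), RepWith @Etale qw ∧ IsPullback pW ((yon S).map π) f qw ∧
        g ≫ b = pW ∧ Function.Surjective (Points.map g) := by
  classical
  obtain ⟨Y₀, q, hq, hqs⟩ := hY.atlas
  obtain ⟨X₀, x₀, px, sq₀, hxi⟩ := repWith_exists hi q
  haveI : IsIntegralHom x₀.left := hxi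
  haveI : UniversallyInjective x₀.left :=
    repWith_property (AlgSpPush.FullyFaithful.repWith_universallyInjective hi.rep hu) sq₀
  have sqV := IsPullback.of_hasPullback b px
  have hV₀ := isAlgSpace_of_isPullback sqV hX.diag hV (IsAlgSpace.yon_obj X₀)
  obtain ⟨A, aA, haA, haAs⟩ := hV₀.atlas
  obtain ⟨e, he⟩ := (yon S).map_surjective (aA ≫ pullback.snd b px)
  haveI : Etale e.left := (AlgSp.repWith_yon_map_iff @Etale e).1 (by
    rw [he]
    exact isEtaleMor_of_isPullback hV hX (IsAlgSpace.yon_obj X₀) sqV hb aA haA)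
  have hhit := fun x : A.left ↦
    ProEt.RadicialEtale.exists_hit x₀.left (Scheme.Etale.mk e.left) x
  choose E hE t ht using hhit
  let Wk : A.left → Over S := fun x ↦ Over.mk ((E x).hom ≫ Y₀.hom)
  let wk : ∀ x, Wk x ⟶ Y₀ := fun x ↦ Over.homMk (E x).hom rfl
  haveI : ∀ x, Etale (wk x).left := fun x ↦ (E x).prop
  let W : Over S := sigmaOver Wk
  let w : W ⟶ Y₀ := Over.homMk (Sigma.desc fun x ↦ (E x).hom)
    (Sigma.hom_ext _ _ fun x ↦ by simp [W, Wk])
  haveI : Etale w.left :=
    IsZariskiLocalAtSource.sigmaDesc (P := @Etale) fun x ↦ (E x).prop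
  have hιw : ∀ x, sigmaOverι Wk x ≫ w = wk x := fun x ↦ Over.OverMorphism.ext (by simp [w, W, wk])
  let WX := pullback w x₀
  let Zk : A.left → Over S := fun x ↦ pullback (wk x) x₀
  let gk : ∀ x, Zk x ⟶ WX := fun x ↦
    pullback.lift (pullback.fst (wk x) x₀ ≫ sigmaOverι Wk x) (pullback.snd (wk x) x₀)
      (by rw [Category.assoc, hιw, pullback.condition])
  have sqg : ∀ x, IsPullback (pullback.fst (wk x) x₀) (gk x) (sigmaOverι Wk x)
      (pullback.fst w x₀) := fun x ↦ by
    refine IsPullback.of_bot (h₂₁ := pullback.fst w x₀) ?_ ?_ (IsPullback.of_hasPullback w x₀)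
    · rw [hιw, show gk x ≫ pullback.snd w x₀ = pullback.snd (wk x) x₀ from
        pullback.lift_snd _ _ _]
      exact IsPullback.of_hasPullback _ _
    · exact (pullback.lift_fst _ _ _).symm
  haveI hgo : ∀ x, IsOpenImmersion (gk x).left := fun x ↦
    MorphismProperty.of_isPullback (P := @IsOpenImmersion) ((sqg x).map (Over.forget S))
      (inferInstanceAs (IsOpenImmersion (Sigma.ι (fun i ↦ (Wk i).left) x)))
  have hsurj : ∀ z : WX.left, ∃ x y, (gk x).left y = z := fun z ↦ by
    obtain ⟨x, y, hy⟩ := (sigmaOpenCover (fun i ↦ (Wk i).left)).exists_eq ((pullback.fst w x₀).left z)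
    obtain ⟨r, -, hr⟩ := AlgSpDecent.Core.exists_point_of_scheme_isPullback
      (isPullback_yon (sqg x)) y z (by
        rw [AlgSpDecent.Core.ofPt_yon_map, AlgSpDecent.Core.ofPt_yon_map]
        exact congrArg _ hy)
    exact ⟨x, r, hr⟩
  have hcov : Sieve.ofArrows Zk gk ∈ AlgSp.J S WX :=
    ofArrows_mem_J Zk gk (fun x ↦ inferInstance) (fun x ↦ inferInstance) hsurj
  let i : ∀ x, (Zk x).left ≅ pullback (E x).hom x₀.left := fun x ↦
    ((IsPullback.of_hasPullback (wk x) x₀).map (Over.forget S)).isoPullback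
  have h3 : ∀ x, ((i x).hom ≫ (t x).left) ≫ e.left = (pullback.snd (wk x) x₀).left := fun x ↦
    (Category.assoc _ _ _).trans ((congrArg ((i x).hom ≫ ·) (MorphismProperty.Over.w (t x))).trans
      (IsPullback.isoPullback_hom_snd _))
  let tk : ∀ x, Zk x ⟶ A := fun x ↦ Over.homMk ((i x).hom ≫ (t x).left) (by
    rw [← Over.w e]
    exact ((Category.assoc _ _ _).symm.trans (congrArg (· ≫ X₀.hom) (h3 x))).trans
      (Over.w (pullback.snd (wk x) x₀)))
  have htk : ∀ x, tk x ≫ e = pullback.snd (wk x) x₀ := fun x ↦ Over.OverMorphism.ext (h3 x)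
  obtain ⟨g, hg, -⟩ := exists_desc_of_family Zk gk hcov
    (fun x ↦ (yon S).map (tk x) ≫ aA ≫ pullback.fst b px) fun x y T gi gj eq ↦ by
      by_cases hxy : x = y
      · subst hxy
        haveI : Mono (gk x) := (Over.forget S).mono_of_mono_map (inferInstanceAs (Mono (gk x).left))
        rw [(cancel_mono (gk x)).1 eq]
      · have e' : (gi ≫ pullback.fst (wk x) x₀) ≫ sigmaOverι Wk x =
            (gj ≫ pullback.fst (wk y) x₀) ≫ sigmaOverι Wk y := by
          simpa [gk, pullback.lift_fst] using congrArg (· ≫ pullback.fst w x₀) eq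
        have e'' : (gi ≫ pullback.fst (wk x) x₀).left ≫ Sigma.ι (fun i ↦ (Wk i).left) x =
            (gj ≫ pullback.fst (wk y) x₀).left ≫ Sigma.ι (fun i ↦ (Wk i).left) y :=
          congr($(e').left)
        haveI : IsEmpty ↥T.left := isEmpty_of_commSq_sigmaι_of_ne ⟨e''⟩ hxy
        exact (subsingleton_yon_hom_of_isEmpty V T).elim _ _
  refine ⟨W, WX, (yon S).map w ≫ q, pullback.fst w x₀, (yon S).map (pullback.snd w x₀) ≫ px, g,
    repWith_yon_map_comp (P := @Etale) inferInstance hq,
    (isPullback_yon (IsPullback.of_hasPullback w x₀)).flip.paste_horiz sq₀,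
    hom_ext_of_family Zk gk hcov fun x ↦ ?_, fun v ↦ ?_⟩
  · rw [← Category.assoc, hg x, ← Functor.map_comp_assoc,
      show gk x ≫ pullback.snd w x₀ = pullback.snd (wk x) x₀ from pullback.lift_snd _ _ _,
      Category.assoc, Category.assoc, sqV.w, ← Category.assoc aA, ← he, ← Functor.map_comp_assoc,
      htk]
  · obtain ⟨y, hy⟩ := surjective_map (repWith_baseChange sq₀.flip hqs) (Points.map b v)
    obtain ⟨v₀, hv₀, -⟩ := exists_of_isPullback sqV v y hy.symm
    obtain ⟨a, rfl⟩ := surjective_ofPt haAs v₀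
    obtain ⟨r, hr⟩ := ht a
    refine ⟨Points.ofPt ((yon S).map (gk a)) ((i a).inv r), ?_⟩
    rw [Points.map_ofPt, hg a, ofPt_yon_map_comp, ← hv₀, Points.map_ofPt]
    refine congrArg _ ?_
    show ((i a).hom ≫ (t a).left) ((i a).inv r) = a
    rw [← Scheme.Hom.comp_apply, Iso.inv_hom_id_assoc]
    exact hr

/-- Two maps to the cover agree in the space after any lift to the base change. -/
def Rel {X Y V : Sp S} {W WX : Over S} (qw : (yon S).obj W ⟶ Y) (π : WX ⟶ W)
    (pW : (yon S).obj WX ⟶ X) (g : (yon S).obj WX ⟶ V) (T : Over S) (a b : T ⟶ W) : Prop :=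
  (yon S).map a ≫ qw = (yon S).map b ≫ qw ∧
    ∀ (T' : Over S) (p : T' ⟶ T) (u v : T' ⟶ WX),
      (yon S).map u ≫ pW = (yon S).map v ≫ pW → u ≫ π = p ≫ a → v ≫ π = p ≫ b →
        (yon S).map u ≫ g = (yon S).map v ≫ g

/-- The descended space, given a cover by base changes. -/
theorem exists_descent_of_cover {X Y V : Sp S} (hX : IsAlgSpace X) (hY : IsAlgSpace Y)
    (hV : IsAlgSpace V) {f : X ⟶ Y} (hf : IsUnivHomeoMor f) {b : V ⟶ X} (hb : IsEtaleMor b)
    {W WX : Over S} {qw : (yon S).obj W ⟶ Y} (hqw : RepWith @Etale qw) {π : WX ⟶ W}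
    {pW : (yon S).obj WX ⟶ X} {g : (yon S).obj WX ⟶ V} (sqW : IsPullback pW ((yon S).map π) f qw)
    (hgb : g ≫ b = pW) (hgs : Function.Surjective (Points.map g)) :
    ∃ (V' : Sp S) (a : V' ⟶ Y) (c : V ⟶ V'),
      IsAlgSpace V' ∧ IsEtaleMor a ∧ IsPullback b c f a := by
  have hpW : RepWith @Etale pW := repWith_baseChange sqW.flip hqw
  have hge : IsEtaleMor g := isEtaleMor_of_comp (IsAlgSpace.yon_obj WX) hV hX
    (by rw [hgb]; exact AlgSpDecent.DescendMor.isEtaleMor_of_repWith hpW) hb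
  have hg : RepWith @Etale g := by simpa using hge (𝟙 _) (AlgSp.repWith_id _ _)
  have hgS : RepWith @Surjective g := repWith_surjective_of_points hg.rep hgs
  haveI := isLocallySurjective_of_etale hg hgS
  haveI : Epi g := (Sheaf.isLocallySurjective_iff_epi' (Type (u + 1)) g).1 inferInstance
  obtain ⟨M, m₁, m₂, sqM⟩ := exists_isPullback_yon hY.diag qw qw
  obtain ⟨N, n₁, n₂, sqN⟩ := exists_isPullback_yon hX.diag pW pW
  obtain ⟨cN, hcN⟩ := (yon S).map_surjective (sqM.lift ((yon S).map n₁ ≫ (yon S).map π)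
    ((yon S).map n₂ ≫ (yon S).map π) (by
      rw [Category.assoc, Category.assoc, ← sqW.w, reassoc_of% sqN.w]))
  have hcN₁ : cN ≫ m₁ = n₁ ≫ π := (yon S).map_injective (by
    rw [Functor.map_comp, Functor.map_comp, hcN, sqM.lift_fst])
  have hcN₂ : cN ≫ m₂ = n₂ ≫ π := (yon S).map_injective (by
    rw [Functor.map_comp, Functor.map_comp, hcN, sqM.lift_snd])
  have sqc : IsPullback ((yon S).map n₁) ((yon S).map cN) ((yon S).map π) ((yon S).map m₁) := by
    refine IsPullback.of_bot (h₂₁ := (yon S).map m₁) ?_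
      (by rw [← Functor.map_comp, ← Functor.map_comp, hcN₁]) sqM
    rw [← Functor.map_comp, hcN₂, Functor.map_comp, ← sqW.w]
    exact sqN.paste_vert sqW
  have hπh : IsUnivHomeoMor ((yon S).map π) := Proper.univSp_baseChange sqW hf
  have hπb : Function.Bijective π.left :=
    ((Topo.isHomeomorph_yon_map_iff π).1
      (isHomeomorph_of_univHomeo (IsAlgSpace.yon_obj W) hπh)).bijective
  have hcb : IsHomeomorph cN.left := (Topo.isHomeomorph_yon_map_iff cN).1
    (isHomeomorph_of_univHomeo (IsAlgSpace.yon_obj M) (Proper.univSp_baseChange sqc hπh))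
  obtain ⟨R, r₁, r₂, sqR⟩ := exists_isPullback_yon hV.diag g g
  obtain ⟨r, hr⟩ := (yon S).map_surjective (sqN.lift ((yon S).map r₁) ((yon S).map r₂) (by
    rw [← hgb, reassoc_of% sqR.w]))
  have hr₁ : r ≫ n₁ = r₁ := (yon S).map_injective (by rw [Functor.map_comp, hr, sqN.lift_fst])
  have hr₂ : r ≫ n₂ = r₂ := (yon S).map_injective (by rw [Functor.map_comp, hr, sqN.lift_snd])
  haveI : Mono r := ⟨fun x y e ↦ (yon S).map_injective (sqR.hom_ext
    (by rw [← Functor.map_comp, ← Functor.map_comp, ← hr₁, reassoc_of% e])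
    (by rw [← Functor.map_comp, ← Functor.map_comp, ← hr₂, reassoc_of% e]))⟩
  haveI : Mono r.left := inferInstance
  haveI : Etale r₁.left := repWith_property hg sqR.flip
  haveI : Etale n₁.left := repWith_property hpW sqN.flip
  haveI : Etale r.left := EtaleMono.etale_of_comp r.left n₁.left (by
    rw [← Over.comp_left, hr₁]; infer_instance)
  haveI : IsOpenImmersion r.left := IsOpenImmersion.of_flat_of_mono r.left
  let O : M.left.Opens :=
    ⟨cN.left '' Set.range r.left, hcb.isOpenMap _ r.left.isOpenEmbedding.isOpen_range⟩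
  let R' : Over S := Over.mk (O.ι ≫ M.hom)
  let ι : R' ⟶ M := Over.homMk O.ι rfl
  haveI : Mono ι := (Over.forget S).mono_of_mono_map (inferInstanceAs (Mono O.ι))
  -- the relation in terms of pullbacks
  have key : ∀ (T : Over S) (a b : T ⟶ W),
      (∃ l : T ⟶ R', l ≫ ι ≫ m₁ = a ∧ l ≫ ι ≫ m₂ = b) ↔ Rel qw π pW g T a b := by
    intro T a b
    constructor
    · rintro ⟨l, rfl, rfl⟩
      refine ⟨?_, fun T' p u v huv hu hv ↦ ?_⟩
      · simp only [Functor.map_comp, Category.assoc, sqM.w]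
      obtain ⟨d, hd⟩ := (yon S).map_surjective (sqN.lift _ _ huv)
      have hd₁ : d ≫ n₁ = u := (yon S).map_injective (by rw [Functor.map_comp, hd, sqN.lift_fst])
      have hd₂ : d ≫ n₂ = v := (yon S).map_injective (by rw [Functor.map_comp, hd, sqN.lift_snd])
      have hdc : d ≫ cN = p ≫ l ≫ ι := (yon S).map_injective (sqM.hom_ext
        (by rw [← Functor.map_comp, ← Functor.map_comp, Category.assoc, hcN₁, reassoc_of% hd₁, hu,
              Category.assoc, Category.assoc])
        (by rw [← Functor.map_comp, ← Functor.map_comp, Category.assoc, hcN₂, reassoc_of% hd₂, hv,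
              Category.assoc, Category.assoc]))
      have hrange : Set.range d.left ⊆ Set.range r.left := by
        rintro _ ⟨x, rfl⟩
        obtain ⟨y, ⟨z, hz⟩, hy⟩ : cN.left (d.left x) ∈ O := by
          rw [← Scheme.Hom.comp_apply, ← Over.comp_left, hdc, ← Category.assoc]
          exact (O.range_ι).le ⟨(p ≫ l).left x, rfl⟩
        rw [← hcb.injective hy]
        exact ⟨z, hz⟩
      let d' : T' ⟶ R := Over.homMk (IsOpenImmersion.lift r.left d.left hrange) (by
        rw [← Over.w r, IsOpenImmersion.lift_fac_assoc, Over.w])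
      have hd' : d' ≫ r = d := Over.OverMorphism.ext (IsOpenImmersion.lift_fac _ _ _)
      rw [← hd₁, ← hd₂, ← hd', Category.assoc, Category.assoc, hr₁, hr₂, Functor.map_comp,
        Functor.map_comp, Category.assoc, Category.assoc, sqR.w]
    · rintro ⟨hab, hrel⟩
      obtain ⟨l₀, hl₀⟩ := (yon S).map_surjective (sqM.lift _ _ hab)
      have ha : l₀ ≫ m₁ = a := (yon S).map_injective (by rw [Functor.map_comp, hl₀, sqM.lift_fst])
      have hb' : l₀ ≫ m₂ = b := (yon S).map_injective (by rw [Functor.map_comp, hl₀, sqM.lift_snd])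
      let T' := pullback l₀ cN
      let p : T' ⟶ T := pullback.fst l₀ cN
      let d : T' ⟶ N := pullback.snd l₀ cN
      have hdc : d ≫ cN = p ≫ l₀ := pullback.condition.symm
      have huv : (yon S).map (d ≫ n₁) ≫ pW = (yon S).map (d ≫ n₂) ≫ pW := by
        simp only [Functor.map_comp, Category.assoc, sqN.w]
      have hg' := hrel T' p (d ≫ n₁) (d ≫ n₂) huv
        (by rw [Category.assoc, ← hcN₁, reassoc_of% hdc, ha])
        (by rw [Category.assoc, ← hcN₂, reassoc_of% hdc, hb'])
      obtain ⟨d', hd'⟩ := (yon S).map_surjective (sqR.lift _ _ hg')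
      have hd'' : d' ≫ r = d := (yon S).map_injective (sqN.hom_ext
        (by rw [← Functor.map_comp, ← Functor.map_comp, Category.assoc, hr₁, Functor.map_comp, hd',
              sqR.lift_fst])
        (by rw [← Functor.map_comp, ← Functor.map_comp, Category.assoc, hr₂, Functor.map_comp, hd',
              sqR.lift_snd]))
      have hrange : Set.range l₀.left ⊆ Set.range O.ι := by
        rw [O.range_ι]
        rintro _ ⟨x, rfl⟩
        obtain ⟨n, hn⟩ := hcb.surjective (l₀.left x)
        obtain ⟨x', hx', -⟩ := AlgSpDecent.Core.exists_point_of_scheme_isPullback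
          (isPullback_yon (IsPullback.of_hasPullback l₀ cN)) x n (by
            rw [AlgSpDecent.Core.ofPt_yon_map, AlgSpDecent.Core.ofPt_yon_map, hn])
        refine ⟨r.left (d'.left x'), ⟨_, rfl⟩, ?_⟩
        rw [← Scheme.Hom.comp_apply, ← Over.comp_left, ← Scheme.Hom.comp_apply, ← Over.comp_left,
          reassoc_of% hd'', hdc, Over.comp_left, Scheme.Hom.comp_apply, hx']
      refine ⟨Over.homMk (IsOpenImmersion.lift O.ι l₀.left hrange) (by
        show _ ≫ O.ι ≫ M.hom = _
        rw [IsOpenImmersion.lift_fac_assoc, Over.w]), ?_, ?_⟩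
      all_goals rw [← Category.assoc]
      · rw [← ha]; congr 1; exact Over.OverMorphism.ext (IsOpenImmersion.lift_fac _ _ _)
      · rw [← hb']; congr 1; exact Over.OverMorphism.ext (IsOpenImmersion.lift_fac _ _ _)
  -- the quotient
  have heqv : ∀ T, Equivalence (fun a b : T ⟶ W ↦ ∃ l : T ⟶ R', l ≫ ι ≫ m₁ = a ∧ l ≫ ι ≫ m₂ = b) := by
    intro T
    simp only [key]
    refine ⟨fun a ↦ ⟨rfl, fun T' p u v huv hu hv ↦ ?_⟩, fun {a b} h ↦ ⟨h.1.symm,
      fun T' p u v huv hu hv ↦ (h.2 T' p v u huv.symm hv hu).symm⟩, fun {a b c} h h' ↦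
      ⟨h.1.trans h'.1, fun T' p u v huv hu hv ↦ ?_⟩⟩
    · rw [(yon S).map_injective (sqW.hom_ext huv (by
        rw [← Functor.map_comp, ← Functor.map_comp, hu, hv]))]
    · obtain ⟨m, hm⟩ := (yon S).map_surjective (sqW.lift ((yon S).map u ≫ pW)
        ((yon S).map (p ≫ b)) (by
          rw [Category.assoc, sqW.w, ← Category.assoc, ← Functor.map_comp, hu, Functor.map_comp,
            Functor.map_comp, Category.assoc, Category.assoc, h.1]))
      have hm₁ : (yon S).map m ≫ pW = (yon S).map u ≫ pW := by rw [hm, sqW.lift_fst]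
      have hm₂ : m ≫ π = p ≫ b :=
        (yon S).map_injective (by rw [Functor.map_comp, hm, sqW.lift_snd])
      exact (h.2 T' p u m hm₁.symm hu hm₂).trans (h'.2 T' p m v (hm₁.trans huv) hm₂ hv)
  haveI : Etale m₁.left := repWith_property hqw sqM.flip
  haveI : Etale m₂.left := repWith_property hqw sqM
  have hrel : AlgSp.IsEtaleEqvRel (ι ≫ m₂) (ι ≫ m₁) :=
    { injective := fun T l l' h₁ h₂ ↦ by
        rw [← cancel_mono ι]
        refine (yon S).map_injective (sqM.hom_ext ?_ ?_)
        · rw [← Functor.map_comp, ← Functor.map_comp, Category.assoc, Category.assoc, h₁]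
        · rw [← Functor.map_comp, ← Functor.map_comp, Category.assoc, Category.assoc, h₂]
      equivalence := heqv
      etale_left := inferInstanceAs (Etale (O.ι ≫ m₂.left))
      etale_right := inferInstanceAs (Etale (O.ι ≫ m₁.left)) }
  let V' := QuotSh.quot Scheme.fppfPrecoverage (ι ≫ m₂) (ι ≫ m₁)
  let q : (yon S).obj W ⟶ V' := quotMap (ι ≫ m₂) (ι ≫ m₁)
  have hV' : IsAlgSpace V' := isAlgSpace_quot hrel
  have hpres := isPresentation_quot hrel
  haveI := isLocallySurjective_quotMap (ι ≫ m₂) (ι ≫ m₁)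
  have sqQ := isPullback_quot hrel.toIsEqvRel
  obtain ⟨a, ha⟩ := exists_desc q sqQ qw (by simp only [Functor.map_comp, Category.assoc, sqM.w])
  have hae : IsEtaleMor a := (AlgSpFormal.Charts.isEtaleMor_iff_locP hV' hY a).2
    (LocP.locP_of_precomp SourceDescent.Scheme.etale hV' hY hpres.etale hpres.surjective
      (by rw [ha]; exact LocP.locP_of_repWith SourceDescent.Scheme.etale hqw))
  obtain ⟨c, hc⟩ := exists_desc g sqR ((yon S).map π ≫ q) (by
    have hrange : Set.range (r ≫ cN).left ⊆ Set.range O.ι := by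
      rw [O.range_ι]
      rintro _ ⟨x, rfl⟩
      exact ⟨r.left x, ⟨x, rfl⟩, rfl⟩
    let l : R ⟶ R' := Over.homMk (IsOpenImmersion.lift O.ι (r ≫ cN).left hrange) (by
      show _ ≫ O.ι ≫ M.hom = _
      rw [IsOpenImmersion.lift_fac_assoc, Over.w])
    have hl : l ≫ ι = r ≫ cN := Over.OverMorphism.ext (IsOpenImmersion.lift_fac _ _ _)
    have h₁ : l ≫ ι ≫ m₁ = r₁ ≫ π := by
      rw [reassoc_of% hl, hcN₁, reassoc_of% hr₁]
    have h₂ : l ≫ ι ≫ m₂ = r₂ ≫ π := by
      rw [reassoc_of% hl, hcN₂, reassoc_of% hr₂]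
    rw [← Functor.map_comp_assoc, ← Functor.map_comp_assoc, ← h₁, ← h₂, Functor.map_comp,
      Functor.map_comp _ l (ι ≫ m₂), Category.assoc, Category.assoc, quotMap_condition])
  have hbc : b ≫ f = c ≫ a := by
    rw [← cancel_epi g, reassoc_of% hgb, reassoc_of% hc, ha, sqW.w]
  have sqP := IsPullback.of_hasPullback f a
  have hP := isAlgSpace_of_isPullback sqP hY.diag hX hV'
  let h := sqP.lift pW ((yon S).map π ≫ q) (by rw [Category.assoc, ha, sqW.w])
  have sqh : IsPullback ((yon S).map π) h q (pullback.snd f a) :=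
    IsPullback.of_bot (h₂₁ := pullback.snd f a) (by rw [sqP.lift_fst, ha]; exact sqW.flip)
      (sqP.lift_snd _ _ _).symm sqP.flip
  haveI := isLocallySurjective_of_etale (repWith_baseChange sqh hpres.etale)
    (repWith_baseChange sqh hpres.surjective)
  haveI : Epi h := (Sheaf.isLocallySurjective_iff_epi' (Type (u + 1)) h).1 inferInstance
  obtain ⟨K, k₁, k₂, sqK⟩ := exists_isPullback_yon hP.diag h h
  obtain ⟨ψ, hψ⟩ := exists_desc h sqK g (by
    have e₁ := congrArg (· ≫ pullback.fst f a) sqK.w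
    have e₂ := congrArg (· ≫ pullback.snd f a) sqK.w
    simp only [Category.assoc, h, sqP.lift_fst, sqP.lift_snd] at e₁ e₂
    obtain ⟨l, hl⟩ := (yon S).map_surjective (sqQ.lift ((yon S).map (k₁ ≫ π))
      ((yon S).map (k₂ ≫ π)) (by simp only [Functor.map_comp, Category.assoc]; exact e₂))
    have hl₁ : l ≫ ι ≫ m₁ = k₁ ≫ π := (yon S).map_injective (by
      rw [Functor.map_comp, hl, sqQ.lift_fst])
    have hl₂ : l ≫ ι ≫ m₂ = k₂ ≫ π := (yon S).map_injective (by
      rw [Functor.map_comp, hl, sqQ.lift_snd])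
    exact ((key K _ _).1 ⟨l, hl₁, hl₂⟩).2 K (𝟙 K) k₁ k₂ e₁ (Category.id_comp _).symm
      (Category.id_comp _).symm)
  let θ := sqP.lift b c hbc
  have hgθ : g ≫ θ = h := sqP.hom_ext
    (by rw [Category.assoc, sqP.lift_fst, sqP.lift_fst, hgb])
    (by rw [Category.assoc, sqP.lift_snd, sqP.lift_snd, hc])
  let i : V ≅ pullback f a :=
    { hom := θ
      inv := ψ
      hom_inv_id := by rw [← cancel_epi g, reassoc_of% hgθ, hψ, Category.comp_id]
      inv_hom_id := by rw [← cancel_epi h, reassoc_of% hψ, hgθ, Category.comp_id] }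
  exact ⟨V', a, c, hV', hae, IsPullback.of_iso sqP i.symm (Iso.refl _) (Iso.refl _) (Iso.refl _)
    ((Iso.eq_inv_comp i).2 (sqP.lift_fst _ _ _) |>.trans (by simp))
    ((Iso.eq_inv_comp i).2 (sqP.lift_snd _ _ _) |>.trans (by simp)) (by simp) (by simp)⟩

/-- An etale space over the source descends to the target. -/
theorem exists_descent {X Y V : Sp S} (hX : IsAlgSpace X) (hY : IsAlgSpace Y) (hV : IsAlgSpace V)
    {f : X ⟶ Y} (hi : RepWith @IsIntegralHom f) (hu : AlgSp.IsUnivInjectiveMor f)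
    (hs : AlgSp.IsSurjectiveMor f) {b : V ⟶ X} (hb : IsEtaleMor b) :
    ∃ (V' : Sp S) (a : V' ⟶ Y) (c : V ⟶ V'),
      IsAlgSpace V' ∧ IsEtaleMor a ∧ IsPullback b c f a := by
  obtain ⟨W, WX, qw, π, pW, g, hqw, sqW, hgb, hgs⟩ := exists_cover hX hY hV hi hu hb
  exact exists_descent_of_cover hX hY hV (isUnivHomeoMor_of_integral hi hu hs) hb hqw sqW
    hgb hgs

end Groth.Agent.Lib.AlgSpTopInv
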